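import Groth.Agent.ProjTilde.Gamma
import Groth.Agent.QCohMod.FiniteType

/-!
# Finitely generated graded modules with the same sheaf
-/

set_option backward.isDefEq.respectTransparency false
set_option synthInstance.maxHeartbeats 200000

universe u

open CategoryTheory AlgebraicGeometry Opposite TopologicalSpace
open Groth.PicAux Groth.Ega2Proj

namespace Groth.ProjTilde

variable {R A : Type u} [CommRing R] [CommRing A] [Algebra R A] {𝒜 : ℕ → Submodule R A}
  [GradedAlgebra 𝒜]

theorem exists_fn {f : A} (hf : f ∈ 𝒜 1) (r : Γ(Proj 𝒜, Proj.basicOpen 𝒜 f)) :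
    ∃ k a ha, fn hf k a ha = r := by
  obtain ⟨z, rfl⟩ : ∃ z, Proj.awayToSection 𝒜 f z = r :=
    (ConcreteCategory.bijective_of_isIso (Proj.basicOpenIsoAway 𝒜 f hf Nat.one_pos).hom).2 r
  obtain ⟨k, a, ha, rfl⟩ := ProjClosed.fr_surjective hf z
  exact ⟨k, a, ha, rfl⟩

variable {M : Type u} [AddCommGroup M] [Module R M] [Module A M]
  (ℳ : ℕ → Submodule R M) [DirectSum.Decomposition ℳ] [SetLike.GradedSMul 𝒜 ℳ]

include 𝒜 in
/-- The span of homogeneous elements is homogeneous. -/
theorem decompose_mem_span {T : Set M} (hT : ∀ t ∈ T, ∃ d, t ∈ ℳ d) {x : M}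
    (hx : x ∈ Submodule.span A T) (n : ℕ) :
    (DirectSum.decompose ℳ x n : M) ∈ Submodule.span A T := by
  classical
  induction hx using Submodule.span_induction generalizing n with
  | mem t ht =>
    obtain ⟨d, hd⟩ := hT t ht
    by_cases h : d = n
    · subst h
      rw [DirectSum.decompose_of_mem_same ℳ hd]
      exact Submodule.subset_span ht
    · rw [DirectSum.decompose_of_mem_ne ℳ hd h]
      exact zero_mem _
  | zero => simp
  | add x y _ _ hx hy =>
    rw [DirectSum.decompose_add, DirectSum.add_apply, Submodule.coe_add]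
    exact add_mem (hx n) (hy n)
  | smul a x _ ih =>
    induction a using DirectSum.Decomposition.inductionOn 𝒜 with
    | zero => simp
    | @homogeneous k a =>
      rw [← DirectSum.sum_support_decompose ℳ x, Finset.smul_sum, DirectSum.decompose_sum,
        DFinsupp.finsetSum_apply, AddSubmonoidClass.coe_finsetSum]
      refine sum_mem fun i _ ↦ ?_
      have h1 := Tilde.smul_mem 𝒜 ℳ a.2 (DirectSum.decompose ℳ x i).2 rfl
      by_cases h : k + i = n
      · subst h
        rw [DirectSum.decompose_of_mem_same ℳ h1]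
        exact Submodule.smul_mem _ _ (ih i)
      · rw [DirectSum.decompose_of_mem_ne ℳ h1 h]
        exact zero_mem _
    | add a b ha hb =>
      rw [add_smul, DirectSum.decompose_add, DirectSum.add_apply, Submodule.coe_add]
      exact add_mem ha hb

variable [IsScalarTower R A M]

/-- The grading induced on a submodule. -/
def subGrading (S : Submodule A M) (n : ℕ) : Submodule R S :=
  (ℳ n).comap (S.subtype.restrictScalars R)

theorem mem_subGrading {S : Submodule A M} {n : ℕ} {x : S} :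
    x ∈ subGrading ℳ S n ↔ (x : M) ∈ ℳ n :=
  Iff.rfl

include 𝒜 in
theorem subGrading_isInternal {T : Set M} (hT : ∀ t ∈ T, ∃ d, t ∈ ℳ d) :
    DirectSum.IsInternal (subGrading ℳ (Submodule.span A T)) := by
  classical
  set S := Submodule.span A T
  have key : ∀ (z : DirectSum ℕ fun i ↦ subGrading ℳ S i) (n : ℕ),
      (DirectSum.decompose ℳ ((DirectSum.coeAddMonoidHom (subGrading ℳ S) z : S) : M) n : M) =
        ((z n).1 : M) := by
    intro z n
    induction z using DirectSum.induction_on with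
    | zero => rw [map_zero]; simp
    | of i y =>
      rw [DirectSum.coeAddMonoidHom_of]
      by_cases h : i = n
      · subst h
        rw [DirectSum.decompose_of_mem_same ℳ ((mem_subGrading ℳ).1 y.2), DirectSum.of_eq_same]
      · rw [DirectSum.decompose_of_mem_ne ℳ ((mem_subGrading ℳ).1 y.2) h, DirectSum.of_eq_of_ne _ _ _ (Ne.symm h)]
        rfl
    | add z w hz hw =>
      rw [map_add, Submodule.coe_add, DirectSum.decompose_add, DirectSum.add_apply, Submodule.coe_add,
        hz, hw]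
      rfl
  refine ⟨fun z w h ↦ DFinsupp.ext fun n ↦ Subtype.ext (Subtype.ext ?_), fun x ↦ ?_⟩
  · rw [← key z n, ← key w n, h]
  · refine ⟨∑ n ∈ (DirectSum.decompose ℳ (x : M)).support, DirectSum.of (fun i ↦ subGrading ℳ S i) n
      ⟨⟨_, decompose_mem_span ℳ (𝒜 := 𝒜) hT x.2 n⟩,
        (mem_subGrading ℳ).2 (DirectSum.decompose ℳ (x : M) n).2⟩, Subtype.ext ?_⟩
    rw [map_sum, AddSubmonoidClass.coe_finsetSum]
    simp only [DirectSum.coeAddMonoidHom_of]
    exact DirectSum.sum_support_decompose ℳ (x : M)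

instance subGrading_gradedSMul (S : Submodule A M) : SetLike.GradedSMul 𝒜 (subGrading ℳ S) where
  smul_mem {k n a x} ha hx := SetLike.GradedSMul.smul_mem (A := 𝒜) (B := ℳ) ha hx

variable {s : Finset A} {hs1 : ∀ f ∈ s, f ∈ 𝒜 1} {F : (Proj 𝒜).Modules} (D : ChartData hs1 ℳ F)
  (S : Submodule A M) [DirectSum.Decomposition (subGrading ℳ S)]

/-- The restricted chart data. -/
noncomputable def subData : ChartData hs1 (subGrading ℳ S) F where
  c f n := (D.c f n).comp S.subtype.toAddMonoidHom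
  c_smul f k n a ha m hm := D.c_smul f k n a ha m.1 hm
  c_res f g n m hm := D.c_res f g n m.1 hm

theorem exists_mem_span_c_eq (f : s) {G : Set Γ(F, Proj.basicOpen 𝒜 (f : A))}
    (hG : Submodule.span Γ(Proj 𝒜, Proj.basicOpen 𝒜 (f : A)) G = ⊤)
    (hS : ∀ g ∈ G, ∃ n, ∃ m ∈ S, m ∈ ℳ n ∧ D.c f n m = g) (v : Γ(F, Proj.basicOpen 𝒜 (f : A))) :
    ∃ n, ∃ m ∈ subGrading ℳ S n, D.c f n (m : S).1 = v := by
  have hv : v ∈ Submodule.span Γ(Proj 𝒜, Proj.basicOpen 𝒜 (f : A)) G := hG ▸ trivial
  induction hv using Submodule.span_induction with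
  | mem g hg =>
    obtain ⟨n, m, hm, hmn, h⟩ := hS g hg
    exact ⟨n, ⟨m, hm⟩, hmn, h⟩
  | zero => exact ⟨0, 0, zero_mem _, map_zero _⟩
  | add v w _ _ hv hw =>
    obtain ⟨n, m, hm, rfl⟩ := hv
    obtain ⟨n', m', hm', rfl⟩ := hw
    refine ⟨n' + n, (f : A) ^ n' • m + (f : A) ^ n • m', add_mem
      (Tilde.smul_mem 𝒜 _ (pow_mem_one (hs1 f f.2) n') hm rfl)
      (Tilde.smul_mem 𝒜 _ (pow_mem_one (hs1 f f.2) n) hm' (Nat.add_comm n n')), ?_⟩
    have hm0 : (m : M) ∈ ℳ n := hm
    have hm0' : (m' : M) ∈ ℳ n' := hm'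
    have e2 : D.c f (n' + n) ((f : A) ^ n • (m' : M)) = D.c f n' m'.1 := by
      rw [Nat.add_comm, D.c_smul f n n' _ (pow_mem_one (hs1 f f.2) n) _ hm0', fn_self, one_smul]
    rw [Submodule.coe_add, Submodule.coe_smul, Submodule.coe_smul, map_add, e2,
      D.c_smul f n' n _ (pow_mem_one (hs1 f f.2) n') _ hm0, fn_self, one_smul]
  | smul r v _ hv =>
    obtain ⟨n, m, hm, rfl⟩ := hv
    obtain ⟨k, a, ha, rfl⟩ := exists_fn (hs1 f f.2) r
    exact ⟨k + n, a • m, Tilde.smul_mem 𝒜 _ ha hm rfl, D.c_smul f k n a ha m.1 hm⟩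

end Groth.ProjTilde
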