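import Groth.Agent.ProjTilde.Hom
import Mathlib.Algebra.Polynomial.Module.Basic

/-!
# The graded module of compatible chart sections of a quasi-coherent sheaf on `Proj`
-/

set_option backward.isDefEq.respectTransparency false
set_option synthInstance.maxHeartbeats 200000

universe u

open CategoryTheory AlgebraicGeometry Opposite TopologicalSpace Polynomial
open Groth.PicAux Groth.Ega2Proj

namespace Groth.ProjTilde

variable {R A : Type u} [CommRing R] [CommRing A] [Algebra R A] {𝒜 : ℕ → Submodule R A}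
  [GradedAlgebra 𝒜] {s : Finset A} (hs1 : ∀ f ∈ s, f ∈ 𝒜 1) (F : (Proj 𝒜).Modules)

theorem res_sub {X : Scheme.{u}} {M : X.Modules} {U V : X.Opens} (h : V ≤ U) (x y : Γ(M, U)) :
    res M h (x - y) = res M h x - res M h y := map_sub _ x y

theorem fn_zero {f : A} (hf : f ∈ 𝒜 1) (k : ℕ) : fn hf k 0 (zero_mem _) = 0 := by
  rw [fn, ProjClosed.fr_zero hf k, map_zero]

theorem fn_congr {f : A} (hf : f ∈ 𝒜 1) (k : ℕ) {a b : A} (h : a = b) (ha : a ∈ 𝒜 k) (hb : b ∈ 𝒜 k) :
    fn hf k a ha = fn hf k b hb := by subst h; rfl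

theorem fn_one {f : A} (hf : f ∈ 𝒜 1) : fn hf 0 1 SetLike.GradedOne.one_mem = 1 :=
  (fn_congr hf 0 (pow_zero f).symm _ (pow_mem_one hf 0)).trans (fn_self hf 0 _)

theorem fn_pow {f g : A} (hf : f ∈ 𝒜 1) (hg : g ∈ 𝒜 1) (n : ℕ) :
    fn hg n (f ^ n) (pow_mem_one hf n) = fn hg 1 f hf ^ n := by
  induction n with
  | zero =>
    exact ((fn_congr hg 0 (pow_zero f) _ SetLike.GradedOne.one_mem).trans (fn_one hg)).trans
      (pow_zero _).symm
  | succ n ih =>
    refine (fn_congr hg (n + 1) (pow_succ f n) _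
      (SetLike.mul_mem_graded (pow_mem_one hf n) hf)).trans ?_
    refine (fn_mul hg n 1 (f ^ n) f (pow_mem_one hf n) hf (n + 1) rfl _).trans ?_
    rw [ih]
    exact (pow_succ _ _).symm

theorem fn_mul_left {g : A} (hg : g ∈ 𝒜 1) (k : ℕ) (a : A) (ha : a ∈ 𝒜 k) :
    fn hg k a ha = fn hg (k + 0) (a * 1) (SetLike.mul_mem_graded ha SetLike.GradedOne.one_mem) := by
  rw [fn_mul hg k 0 a 1 ha SetLike.GradedOne.one_mem (k + 0) rfl, fn_one, mul_one]

/-- The homogeneous pieces of `A` as monomials. -/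
noncomputable def monoHom {f : A} (hf : f ∈ 𝒜 1) (k : ℕ) :
    𝒜 k →+ (Γ(Proj 𝒜, Proj.basicOpen 𝒜 f))[X] :=
  AddMonoidHom.mk' (fun a ↦ monomial k (fn hf k a.1 a.2)) fun a b ↦ by
    simp only [Submodule.coe_add, fn_add hf k a.1 b.1 a.2 b.2, map_add]

/-- `a ↦ ∑ (a_k / f ^ k) X ^ k`. -/
noncomputable def polyHom {f : A} (hf : f ∈ 𝒜 1) : A →+* (Γ(Proj 𝒜, Proj.basicOpen 𝒜 f))[X] :=
  (DirectSum.toSemiring (monoHom hf)
    (by
      change monomial 0 (fn hf 0 1 _) = 1
      rw [fn_one]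
      rfl)
    (fun {i j} a b ↦ by
      change monomial (i + j) (fn hf (i + j) (a.1 * b.1) _) =
        monomial i (fn hf i a.1 a.2) * monomial j (fn hf j b.1 b.2)
      rw [Polynomial.monomial_mul_monomial, fn_mul hf i j a.1 b.1 a.2 b.2 _ rfl])).comp
    (DirectSum.decomposeRingEquiv 𝒜).toRingHom

theorem polyHom_of_mem {f : A} (hf : f ∈ 𝒜 1) {k : ℕ} {a : A} (ha : a ∈ 𝒜 k) :
    polyHom hf a = monomial k (fn hf k a ha) := by
  rw [polyHom, RingHom.comp_apply, show (DirectSum.decomposeRingEquiv 𝒜).toRingHom a =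
    DirectSum.decompose 𝒜 a from rfl, DirectSum.decompose_of_mem 𝒜 ha]
  exact DirectSum.toSemiring_of _ _ _ _ _

/-- All families of polynomials in the sections on the charts. -/
def Amb (_hs1 : ∀ f ∈ s, f ∈ 𝒜 1) (F : (Proj 𝒜).Modules) : Type u :=
  ∀ f : s, PolynomialModule Γ(Proj 𝒜, Proj.basicOpen 𝒜 (f : A)) Γ(F, Proj.basicOpen 𝒜 (f : A))

noncomputable instance : AddCommGroup (Amb hs1 F) :=
  inferInstanceAs (AddCommGroup (∀ f : s,
    PolynomialModule Γ(Proj 𝒜, Proj.basicOpen 𝒜 (f : A)) Γ(F, Proj.basicOpen 𝒜 (f : A))))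

noncomputable instance : Module A (Amb hs1 F) :=
  Module.compHom (∀ f : s,
    PolynomialModule Γ(Proj 𝒜, Proj.basicOpen 𝒜 (f : A)) Γ(F, Proj.basicOpen 𝒜 (f : A)))
    (RingHom.pi fun f : s ↦ polyHom (hs1 f f.2))

variable {hs1 F}

/-- The coefficient in degree `n` on the chart of `f`. -/
noncomputable def coef (f : s) (n : ℕ) : Amb hs1 F →+ Γ(F, Proj.basicOpen 𝒜 (f : A)) :=
  AddMonoidHom.mk' (fun x ↦ (x f).coeff n) fun x y ↦ by
    change (x f + y f).coeff n = _
    rw [PolynomialModule.coeff_add, Finsupp.add_apply]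

theorem amb_ext {x y : Amb hs1 F} (h : ∀ f n, coef f n x = coef f n y) : x = y :=
  funext fun f ↦ PolynomialModule.coeff_injective (Finsupp.ext (h f))

theorem coef_smul {k : ℕ} {a : A} (ha : a ∈ 𝒜 k) (x : Amb hs1 F) (f : s) (n : ℕ) :
    coef f n (a • x) = if k ≤ n then fn (hs1 f f.2) k a ha • coef f (n - k) x else 0 := by
  change (polyHom (hs1 f f.2) a • x f).coeff n = _
  rw [polyHom_of_mem (hs1 f f.2) ha, PolynomialModule.monomial_smul_apply]
  rfl

/-- The element concentrated in degree `n`. -/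
noncomputable def mkHom (n : ℕ) (v : ∀ f : s, Γ(F, Proj.basicOpen 𝒜 (f : A))) : Amb hs1 F :=
  fun f ↦ PolynomialModule.single _ n (v f)

theorem coef_mkHom (n : ℕ) (v : ∀ f : s, Γ(F, Proj.basicOpen 𝒜 (f : A))) (f : s) (k : ℕ) :
    coef f k (mkHom (hs1 := hs1) n v) = if n = k then v f else 0 :=
  Finsupp.single_apply

variable (hs1) in
/-- A family of sections on the charts glues to a section of the twist by `n`. -/
def Compat (n : ℕ) (v : ∀ f : s, Γ(F, Proj.basicOpen 𝒜 (f : A))) : Prop :=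
  ∀ (f g : s) (V : (Proj 𝒜).Opens) (hVf : V ≤ Proj.basicOpen 𝒜 (f : A))
    (hVg : V ≤ Proj.basicOpen 𝒜 (g : A)),
    res F hVg (v g) =
      resX _ hVg (fn (hs1 g g.2) n ((f : A) ^ n) (pow_mem_one (hs1 f f.2) n)) • res F hVf (v f)

theorem compat_zero (n : ℕ) : Compat hs1 (F := F) n (fun _ ↦ 0) := fun f g V hVf hVg ↦ by simp

theorem compat_smul {k : ℕ} {a : A} (ha : a ∈ 𝒜 k) {m : ℕ}
    {v : ∀ f : s, Γ(F, Proj.basicOpen 𝒜 (f : A))} (hv : Compat hs1 m v) :
    Compat hs1 (k + m) (fun f ↦ fn (hs1 f f.2) k a ha • v f) := by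
  intro f g V hVf hVg
  rw [res_smul, res_smul, hv f g V hVf hVg,
    fn_change (hs1 f f.2) (hs1 g g.2) k a ha hVf hVg,
    fn_congr (hs1 g g.2) (k + m) (pow_add (f : A) k m) _
      (SetLike.mul_mem_graded (pow_mem_one (hs1 f f.2) k) (pow_mem_one (hs1 f f.2) m)),
    fn_mul (hs1 g g.2) k m _ _ (pow_mem_one (hs1 f f.2) k) (pow_mem_one (hs1 f f.2) m) _ rfl,
    map_mul, ← mul_smul, ← mul_smul]
  congr 1
  ring

variable (hs1 F) in
/-- The module `⊕ Γ(X, F(n))`, through charts. -/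
def gammaStar : Submodule A (Amb hs1 F) where
  carrier := {x | ∀ n, Compat hs1 n fun f ↦ coef f n x}
  zero_mem' n := by simpa using compat_zero n
  add_mem' {x y} hx hy n f g V hVf hVg := by
    simp only [map_add, res_add, smul_add, hx n f g V hVf hVg, hy n f g V hVf hVg]
  smul_mem' a x hx n := by
    induction a using DirectSum.Decomposition.inductionOn 𝒜 with
    | zero => simpa using compat_zero n
    | @homogeneous k a =>
      by_cases hk : k ≤ n
      · have h := compat_smul a.2 (hx (n - k))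
        rw [Nat.add_sub_cancel' hk] at h
        simpa only [coef_smul a.2, if_pos hk] using h
      · simpa only [coef_smul a.2, if_neg hk] using compat_zero n
    | add a b ha hb =>
      intro f g V hVf hVg
      simp only [add_smul, map_add, res_add, smul_add, ha f g V hVf hVg, hb f g V hVf hVg]

noncomputable instance : Module R (gammaStar hs1 F) :=
  Module.compHom _ (algebraMap R A)

instance : IsScalarTower R A (gammaStar hs1 F) :=
  IsScalarTower.of_algebraMap_smul fun _ _ ↦ rfl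

variable (hs1 F) in
/-- The grading of `gammaStar`. -/
def gammaGrading (n : ℕ) : Submodule R (gammaStar hs1 F) where
  carrier := {x | ∀ f k, k ≠ n → coef f k x.1 = 0}
  zero_mem' f k _ := by simp
  add_mem' {x y} hx hy f k hk := by
    rw [Submodule.coe_add, map_add, hx f k hk, hy f k hk, add_zero]
  smul_mem' r x hx f k hk := by
    change coef f k ((algebraMap R A r • x : gammaStar hs1 F) : Amb hs1 F) = 0
    rw [Submodule.coe_smul, coef_smul (SetLike.algebraMap_mem_graded 𝒜 r), if_pos k.zero_le,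
      Nat.sub_zero, hx f k hk, smul_zero]

instance : SetLike.GradedSMul 𝒜 (gammaGrading hs1 F) where
  smul_mem {k n a x} ha hx := by
    intro f l hl
    change l ≠ k + n at hl
    rw [Submodule.coe_smul, coef_smul ha]
    split_ifs with h
    · rw [hx f (l - k) (by omega), smul_zero]
    · rfl

/-- The component in degree `n`. -/
noncomputable def comp (x : gammaStar hs1 F) (n : ℕ) : gammaGrading hs1 F n :=
  ⟨⟨mkHom n fun f ↦ coef f n x.1, fun k ↦ by
    simp only [coef_mkHom]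
    by_cases hk : n = k
    · subst hk
      simpa using x.2 n
    · simpa only [if_neg hk] using compat_zero k⟩,
  fun f k hk ↦ by simp only [coef_mkHom, if_neg (Ne.symm hk)]⟩

theorem gammaGrading_isInternal : DirectSum.IsInternal (gammaGrading hs1 F) := by
  classical
  have key : ∀ (z : DirectSum ℕ fun i ↦ gammaGrading hs1 F i) (f : s) (n : ℕ),
      coef f n (DirectSum.coeAddMonoidHom (gammaGrading hs1 F) z).1 = coef f n (z n).1.1 := by
    intro z f n
    induction z using DirectSum.induction_on with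
    | zero => rw [map_zero]; rfl
    | of i y =>
      rw [DirectSum.coeAddMonoidHom_of]
      by_cases h : i = n
      · subst h
        rw [DirectSum.of_eq_same]
      · rw [DirectSum.of_eq_of_ne _ _ _ (Ne.symm h)]
        simp [y.2 f n (Ne.symm h)]
    | add z w hz hw =>
      rw [map_add, Submodule.coe_add, map_add, hz, hw, ← map_add]
      rfl
  refine ⟨fun z w h ↦ ?_, fun x ↦ ?_⟩
  · refine DFinsupp.ext fun n ↦ Subtype.ext (Subtype.ext (amb_ext fun f k ↦ ?_))
    by_cases hk : k = n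
    · subst hk
      rw [← key z f k, ← key w f k, h]
    · rw [(z n).2 f k hk, (w n).2 f k hk]
  · let S : Finset ℕ := Finset.univ.biUnion fun f : s ↦ (x.1 f).coeff.support
    refine ⟨∑ n ∈ S, DirectSum.of (fun i ↦ gammaGrading hs1 F i) n (comp x n),
      Subtype.ext (amb_ext fun f k ↦ ?_)⟩
    rw [map_sum, AddSubmonoidClass.coe_finset_sum, map_sum]
    simp only [DirectSum.coeAddMonoidHom_of]
    change ∑ n ∈ S, coef f k (mkHom n fun f ↦ coef f n x.1) = _
    simp only [coef_mkHom]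
    rw [Finset.sum_ite_eq' S k fun n ↦ coef f n x.1]
    split_ifs with h
    · rfl
    · by_contra hne
      exact h (Finset.mem_biUnion.2 ⟨f, Finset.mem_univ f, Finsupp.mem_support_iff.2 (Ne.symm hne)⟩)

noncomputable instance : DirectSum.Decomposition (gammaGrading hs1 F) :=
  gammaGrading_isInternal.chooseDecomposition

variable (hs1 F) in
/-- The chart maps of `gammaStar`. -/
noncomputable def gammaData : ChartData hs1 (gammaGrading hs1 F) F where
  c f n := (coef f n).comp (gammaStar hs1 F).subtype.toAddMonoidHom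
  c_smul f k n a ha m _ := by
    change coef f (k + n) ((a • m : gammaStar hs1 F) : Amb hs1 F) = _
    rw [Submodule.coe_smul, coef_smul ha, if_pos (Nat.le_add_right k n), Nat.add_sub_cancel_left]
    rfl
  c_res f g n m _ V hVf hVg := m.2 n f g V hVf hVg

theorem basicOpen_fn {g h : A} (hg : g ∈ 𝒜 1) (hh : h ∈ 𝒜 1) :
    (Proj 𝒜).basicOpen (fn hg 1 h hh) = Proj.basicOpen 𝒜 (g * h) :=
  ProjClosed.basicOpen_fr hg hh

theorem exists_pow_smul_eq_zero_of_coef (hF : Coh.IsQCoh F) (f : s) (n : ℕ)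
    (m : gammaStar hs1 F) (hm : m ∈ gammaGrading hs1 F n) (h0 : coef f n m.1 = 0) :
    ∃ N : ℕ, (f : A) ^ N • m = 0 := by
  classical
  have : F.IsQuasicoherent := hF
  have key : ∀ g : s, ∃ K : ℕ, fn (hs1 g g.2) 1 (f : A) (hs1 f f.2) ^ K • coef g n m.1 = 0 := by
    intro g
    refine QCohMod.exists_pow_smul_eq_zero F
      (Proj.isAffineOpen_basicOpen 𝒜 _ (hs1 g g.2) Nat.one_pos) _ _ ?_
    have hle : (Proj 𝒜).basicOpen (fn (hs1 g g.2) 1 (f : A) (hs1 f f.2)) ≤
        Proj.basicOpen 𝒜 (f : A) :=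
      (basicOpen_fn (hs1 g g.2) (hs1 f f.2)).le.trans (Proj.basicOpen_mono _ _ _ (dvd_mul_left _ _))
    refine (m.2 n f g _ hle ((Proj 𝒜).basicOpen_le _)).trans ?_
    simp [h0]
  choose K hK using key
  refine ⟨∑ g, K g, Subtype.ext (amb_ext fun g k ↦ ?_)⟩
  rw [Submodule.coe_smul, coef_smul (pow_mem_one (hs1 f f.2) _), fn_pow (hs1 f f.2), Submodule.coe_zero,
    map_zero]
  split_ifs with h
  · by_cases hk : k - ∑ g, K g = n
    · rw [hk, ← Nat.sub_add_cancel (Finset.single_le_sum (fun _ _ ↦ Nat.zero_le _)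
        (Finset.mem_univ g) : K g ≤ ∑ g, K g), pow_add, mul_smul, hK g, smul_zero]
    · rw [hm g _ hk, smul_zero]
  · rfl

theorem exists_coef_eq (hF : Coh.IsQCoh F) (f : s) (v : Γ(F, Proj.basicOpen 𝒜 (f : A))) :
    ∃ n, ∃ m ∈ gammaGrading hs1 F n, coef f n (Subtype.val m : Amb hs1 F) = v := by
  classical
  have : F.IsQuasicoherent := hF
  let u : ∀ g : s, Γ(Proj 𝒜, Proj.basicOpen 𝒜 (g : A)) := fun g ↦
    fn (hs1 g g.2) 1 (f : A) (hs1 f f.2)
  have hbu : ∀ g : s, (Proj 𝒜).basicOpen (u g) = Proj.basicOpen 𝒜 ((g : A) * f) := fun g ↦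
    basicOpen_fn (hs1 g g.2) (hs1 f f.2)
  have hleg : ∀ g : s, (Proj 𝒜).basicOpen (u g) ≤ Proj.basicOpen 𝒜 (g : A) := fun g ↦
    (Proj 𝒜).basicOpen_le _
  have hlef : ∀ g : s, (Proj 𝒜).basicOpen (u g) ≤ Proj.basicOpen 𝒜 (f : A) := fun g ↦
    (hbu g).le.trans (Proj.basicOpen_mono _ _ _ (dvd_mul_left _ _))
  -- extend `v` to every chart
  choose k t ht using fun g : s ↦ QCohMod.exists_pow_smul_eq_res F
    (Proj.isAffineOpen_basicOpen 𝒜 _ (hs1 g g.2) Nat.one_pos) (u g) (res F (hlef g) v)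
  let K := ∑ g, k g
  let T : ∀ g : s, Γ(F, Proj.basicOpen 𝒜 (g : A)) := fun g ↦ u g ^ (K - k g) • t g
  have hT : ∀ g, res F (hleg g) (T g) = resX _ (hleg g) (u g) ^ K • res F (hlef g) v := by
    intro g
    rw [res_smul, map_pow, show res F (hleg g) (t g) = _ from ht g]
    change resX _ (hleg g) (u g) ^ (K - k g) • resX _ (hleg g) (u g) ^ k g • _ = _
    rw [← mul_smul, ← pow_add, Nat.sub_add_cancel (Finset.single_le_sum (fun _ _ ↦ Nat.zero_le _)
      (Finset.mem_univ g) : k g ≤ K)]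
  have hTf : T f = v := by
    have h1 : u f = 1 := (fn_congr (hs1 f f.2) 1 (pow_one (f : A)).symm _
      (pow_mem_one (hs1 f f.2) 1)).trans (fn_self _ 1 _)
    have hle : Proj.basicOpen 𝒜 (f : A) ≤ (Proj 𝒜).basicOpen (u f) := by
      rw [hbu, Proj.basicOpen_mul]
      exact le_inf le_rfl le_rfl
    have h2 := congrArg (res F hle) (hT f)
    simpa [h1] using h2
  clear_value T
  -- cross differences are killed by powers
  have hl : ∀ g h : s, Proj.basicOpen 𝒜 (g : A) ⊓ Proj.basicOpen 𝒜 (h : A) ≤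
      Proj.basicOpen 𝒜 (g : A) := fun g h ↦ inf_le_left
  have hr : ∀ g h : s, Proj.basicOpen 𝒜 (g : A) ⊓ Proj.basicOpen 𝒜 (h : A) ≤
      Proj.basicOpen 𝒜 (h : A) := fun g h ↦ inf_le_right
  have key : ∀ g h : s, ∃ L : ℕ,
      resX _ (hl g h) (u g) ^ L • (res F (hr g h) (T h) -
          resX _ (hr g h) (fn (hs1 h h.2) K ((g : A) ^ K) (pow_mem_one (hs1 g g.2) K)) •
            res F (hl g h) (T g)) = 0 := by
    intro g h
    have haff : IsAffineOpen (Proj.basicOpen 𝒜 (g : A) ⊓ Proj.basicOpen 𝒜 (h : A)) := by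
      rw [← Proj.basicOpen_mul]
      exact Proj.isAffineOpen_basicOpen 𝒜 _ (SetLike.mul_mem_graded (hs1 g g.2) (hs1 h h.2))
        (by omega)
    refine QCohMod.exists_pow_smul_eq_zero F haff _ _ ?_
    let W := (Proj 𝒜).basicOpen (resX _ (hl g h) (u g))
    have hWo : W = Proj.basicOpen 𝒜 (g : A) ⊓ Proj.basicOpen 𝒜 (h : A) ⊓
        (Proj 𝒜).basicOpen (u g) := Scheme.basicOpen_res _ _ _
    have hWg : W ≤ (Proj 𝒜).basicOpen (u g) := hWo.le.trans inf_le_right
    have hWh : W ≤ (Proj 𝒜).basicOpen (u h) := by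
      rw [hbu, Proj.basicOpen_mul]
      refine le_inf (hWo.le.trans (inf_le_left.trans inf_le_right)) (hWg.trans (hlef g))
    have e1 : res F (hWh.trans (hleg h)) (T h) =
        resX _ (hWh.trans (hleg h)) (u h) ^ K • res F (hWh.trans (hlef h)) v := by
      have := congrArg (res F hWh) (hT h)
      simpa only [res_smul, res_res, map_pow, resX_resX] using this
    have e2 : res F (hWg.trans (hleg g)) (T g) =
        resX _ (hWg.trans (hleg g)) (u g) ^ K • res F (hWh.trans (hlef h)) v := by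
      have := congrArg (res F hWg) (hT g)
      simpa only [res_smul, res_res, map_pow, resX_resX] using this
    have e3 : resX _ (hWh.trans (hleg h)) (u h) =
        resX _ (hWh.trans (hleg h)) (fn (hs1 h h.2) 1 (g : A) (hs1 g g.2)) *
          resX _ (hWg.trans (hleg g)) (u g) := by
      have := fn_change (hs1 g g.2) (hs1 h h.2) 1 (f : A) (hs1 f f.2)
        (hWg.trans (hleg g)) (hWh.trans (hleg h))
      rwa [fn_congr (hs1 h h.2) 1 (pow_one (g : A)) _ (hs1 g g.2)] at this
    change res F ((Proj 𝒜).basicOpen_le _) _ = 0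
    rw [res_sub, res_smul, res_res, res_res, resX_resX, e1, e2, e3, fn_pow (hs1 g g.2) (hs1 h h.2), map_pow, mul_pow,
      ← mul_smul, sub_self]
  choose L hL using key
  let Λ := ∑ g, ∑ h, L g h
  let T' : ∀ g : s, Γ(F, Proj.basicOpen 𝒜 (g : A)) := fun g ↦ u g ^ Λ • T g
  have hcompat : Compat hs1 (Λ + K) T' := by
    intro g h V hVg hVh
    have hL0 : resX _ (hl g h) (u g) ^ Λ • (res F (hr g h) (T h) -
          resX _ (hr g h) (fn (hs1 h h.2) K ((g : A) ^ K) (pow_mem_one (hs1 g g.2) K)) •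
            res F (hl g h) (T g)) = 0 := by
      have h1 : L g h ≤ Λ := (Finset.single_le_sum (f := fun h ↦ L g h) (fun _ _ ↦ Nat.zero_le _)
        (Finset.mem_univ h)).trans (Finset.single_le_sum (f := fun g ↦ ∑ h, L g h)
          (fun _ _ ↦ Nat.zero_le _) (Finset.mem_univ g))
      rw [← Nat.sub_add_cancel h1, pow_add, mul_smul, hL, smul_zero]
    have h2 := congrArg (res F (le_inf hVg hVh)) hL0
    simp only [res_smul, map_pow, res_sub, res_res, resX_resX, res_zero, smul_sub] at h2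
    rw [sub_eq_zero] at h2
    have e3 : resX _ hVh (u h) =
        resX _ hVh (fn (hs1 h h.2) 1 (g : A) (hs1 g g.2)) * resX _ hVg (u g) := by
      have := fn_change (hs1 g g.2) (hs1 h h.2) 1 (f : A) (hs1 f f.2) hVg hVh
      rwa [fn_congr (hs1 h h.2) 1 (pow_one (g : A)) _ (hs1 g g.2)] at this
    change res F hVh (u h ^ Λ • T h) = _ • res F hVg (u g ^ Λ • T g)
    rw [res_smul, res_smul, map_pow, map_pow, e3, fn_pow (hs1 g g.2) (hs1 h h.2), map_pow, mul_pow, mul_smul, h2,
      fn_pow (hs1 g g.2) (hs1 h h.2), map_pow, pow_add]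
    simp only [← mul_smul]
    congr 1
    ring
  refine ⟨Λ + K, ⟨mkHom (Λ + K) T', fun n ↦ ?_⟩, fun g n hn ↦ ?_, ?_⟩
  · simp only [coef_mkHom]
    by_cases hn : Λ + K = n
    · subst hn
      simpa using hcompat
    · simpa only [if_neg hn] using compat_zero n
  · simp only [coef_mkHom, if_neg (Ne.symm hn)]
  · have h1 : u f = 1 := (fn_congr (hs1 f f.2) 1 (pow_one (f : A)).symm _
      (pow_mem_one (hs1 f f.2) 1)).trans (fn_self _ 1 _)
    simp [coef_mkHom, T', hTf, h1]

end Groth.ProjTilde
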