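import Groth.Agent.ProjClosed.Kernel
import Groth.Agent.Ega2Proj.TwistSheaf
import Groth.Agent.Ega2Proj.IsoAffine

/-!
# Morphisms out of `M~` from compatible maps on the standard charts
-/

set_option backward.isDefEq.respectTransparency false

universe u

open CategoryTheory AlgebraicGeometry Opposite TopologicalSpace
open Groth.PicAux Groth.Ega2Proj

namespace Groth.ProjTilde

variable {R A : Type u} [CommRing R] [CommRing A] [Algebra R A] {𝒜 : ℕ → Submodule R A}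
  [GradedAlgebra 𝒜]

/-- The function `a / f ^ k` on `D₊(f)`. -/
noncomputable def fn {f : A} (hf : f ∈ 𝒜 1) (k : ℕ) (a : A) (ha : a ∈ 𝒜 k) :
    Γ(Proj 𝒜, Proj.basicOpen 𝒜 f) :=
  Proj.awayToSection 𝒜 f (ProjClosed.fr hf k a ha)

theorem fun_ext {U : (Proj 𝒜).Opens} {φ ψ : Γ(Proj 𝒜, U)}
    (h : ∀ x hx, (φ.1 ⟨x, hx⟩).val = (ψ.1 ⟨x, hx⟩).val) : φ = ψ :=
  Subtype.ext (funext fun x ↦ HomogeneousLocalization.val_injective _ (h x.1 x.2))

theorem fn_val {f : A} (hf : f ∈ 𝒜 1) (k : ℕ) (a : A) (ha : a ∈ 𝒜 k)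
    (x : ProjectiveSpectrum 𝒜) (hx : f ∉ x.asHomogeneousIdeal) :
    ((fn hf k a ha).1 ⟨x, hx⟩).val = Localization.mk a
      (⟨f ^ k, fun h => hx (x.isPrime.mem_of_pow_mem k h)⟩ :
        x.asHomogeneousIdeal.toIdeal.primeCompl) := by
  refine (ProjectiveSpectrum.Proj.awayToSection_apply 𝒜 f _ ⟨x, hx⟩).trans ?_
  rw [ProjClosed.val_fr, Localization.mk_eq_mk', IsLocalization.map_mk', Localization.mk_eq_mk']
  rfl

theorem fn_mul {f : A} (hf : f ∈ 𝒜 1) (i k : ℕ) (a b : A) (ha : a ∈ 𝒜 i) (hb : b ∈ 𝒜 k)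
    (n : ℕ) (hn : i + k = n) (hab : a * b ∈ 𝒜 n) :
    fn hf n (a * b) hab = fn hf i a ha * fn hf k b hb := by
  rw [fn, ProjClosed.fr_mul hf i k a b ha hb n hn hab, map_mul]
  rfl

theorem fn_add {f : A} (hf : f ∈ 𝒜 1) (n : ℕ) (a b : A) (ha : a ∈ 𝒜 n) (hb : b ∈ 𝒜 n) :
    fn hf n (a + b) (add_mem ha hb) = fn hf n a ha + fn hf n b hb := by
  rw [fn, ProjClosed.fr_add hf n a b ha hb, map_add]
  rfl

theorem fn_self {f : A} (hf : f ∈ 𝒜 1) (n : ℕ) (h : f ^ n ∈ 𝒜 n) : fn hf n (f ^ n) h = 1 := by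
  refine fun_ext fun x hx ↦ ?_
  refine (fn_val hf n _ h x hx).trans ?_
  refine Eq.trans ?_ HomogeneousLocalization.val_one.symm
  exact Localization.mk_self (⟨f ^ n, fun h => hx (x.isPrime.mem_of_pow_mem n h)⟩ :
    x.asHomogeneousIdeal.toIdeal.primeCompl)

theorem pow_mem_one {f : A} (hf : f ∈ 𝒜 1) (n : ℕ) : f ^ n ∈ 𝒜 n := by
  simpa using SetLike.pow_mem_graded n hf

theorem fn_change {f g : A} (hf : f ∈ 𝒜 1) (hg : g ∈ 𝒜 1) (k : ℕ) (a : A) (ha : a ∈ 𝒜 k)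
    {V : (Proj 𝒜).Opens} (hVf : V ≤ Proj.basicOpen 𝒜 f) (hVg : V ≤ Proj.basicOpen 𝒜 g) :
    resX _ hVg (fn hg k a ha) =
      resX _ hVg (fn hg k (f ^ k) (pow_mem_one hf k)) * resX _ hVf (fn hf k a ha) := by
  refine fun_ext fun x hx ↦ ?_
  change ((fn hg k a ha).1 ⟨x, hVg hx⟩).val =
    ((fn hg k _ _).1 ⟨x, hVg hx⟩ * (fn hf k a ha).1 ⟨x, hVf hx⟩).val
  rw [HomogeneousLocalization.val_mul, fn_val, fn_val, fn_val, Localization.mk_mul,
    Localization.mk_eq_mk_iff, Localization.r_iff_exists]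
  exact ⟨1, by simp only [OneMemClass.coe_one, one_mul, Submonoid.coe_mul]; ring⟩

theorem isUnit_fn {f : A} (hf : f ∈ 𝒜 1) (k : ℕ) (a : A) (ha : a ∈ 𝒜 k)
    {V : (Proj 𝒜).Opens} (hVf : V ≤ Proj.basicOpen 𝒜 f)
    (hV : ∀ x : ProjectiveSpectrum 𝒜, x ∈ V → a ∉ x.asHomogeneousIdeal) :
    IsUnit (resX _ hVf (fn hf k a ha)) := by
  have hle : V ≤ (Proj 𝒜).basicOpen (fn hf k a ha) := fun x hx ↦
    (mem_basicOpen_iff_of_frac 𝒜 (fn hf k a ha) (hVf hx) (fn_val hf k a ha x (hVf hx))).2 (hV x hx)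
  rw [← resX_resX ((Proj 𝒜).basicOpen_le _) hle]
  exact IsUnit.map _ (RingedSpace.isUnit_res_basicOpen (Proj 𝒜).toRingedSpace (fn hf k a ha))

theorem exists_mem_chart (s : Finset A)
    (hs : (HomogeneousIdeal.irrelevant 𝒜).toIdeal = Ideal.span (s : Set A))
    (x : ProjectiveSpectrum 𝒜) : ∃ f : s, x ∈ Proj.basicOpen 𝒜 (f : A) :=
  Opens.mem_iSup.1 ((Proj.iSup_basicOpen_eq_top 𝒜 (fun f : s ↦ (f : A))
    (hs.le.trans (Ideal.span_mono fun y hy ↦ ⟨⟨y, hy⟩, rfl⟩))).ge trivial)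

variable {s : Finset A} (hs1 : ∀ f ∈ s, f ∈ 𝒜 1)
variable {M : Type u} [AddCommGroup M] [Module R M] [Module A M]
  (ℳ : ℕ → Submodule R M) [DirectSum.Decomposition ℳ] [SetLike.GradedSMul 𝒜 ℳ]

/-- Compatible chartwise maps `M_n ⟶ F(D₊(f))`. -/
structure ChartData (F : (Proj 𝒜).Modules) where
  /-- the map on `D₊(f)` in degree `n` -/
  c : ∀ (f : s), ℕ → M →+ Γ(F, Proj.basicOpen 𝒜 (f : A))
  c_smul : ∀ (f : s) (k n : ℕ) (a : A) (ha : a ∈ 𝒜 k) (m : M), m ∈ ℳ n →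
    c f (k + n) (a • m) = fn (hs1 f f.2) k a ha • c f n m
  c_res : ∀ (f g : s) (n : ℕ) (m : M), m ∈ ℳ n → ∀ (V : (Proj 𝒜).Opens)
    (hVf : V ≤ Proj.basicOpen 𝒜 (f : A)) (hVg : V ≤ Proj.basicOpen 𝒜 (g : A)),
    res F hVg (c g n m) =
      resX _ hVg (fn (hs1 g g.2) n ((f : A) ^ n) (pow_mem_one (hs1 f f.2) n)) • res F hVf (c f n m)

variable {hs1} {ℳ} {F : (Proj 𝒜).Modules} (D : ChartData hs1 ℳ F)

/-- `v` is the value of the chart maps at the section `σ`. -/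
def IsVal {U : (Proj 𝒜).Opens} (σ : Γ(GrTilde.tilde 𝒜 ℳ 0, U)) (v : Γ(F, U)) : Prop :=
  ∀ x : ProjectiveSpectrum 𝒜, x ∈ U → ∃ (V : (Proj 𝒜).Opens) (hVU : V ≤ U) (f : s)
    (hVf : V ≤ Proj.basicOpen 𝒜 (f : A)) (j : ℕ) (m : M) (t : A) (ht : t ∈ 𝒜 j),
      x ∈ V ∧ m ∈ ℳ j ∧
      (∀ (y : ProjectiveSpectrum 𝒜) (hy : y ∈ V), ∃ hty : t ∉ y.asHomogeneousIdeal,
        Tilde.tval σ y (hVU hy) = LocalizedModule.mk m ⟨t, hty⟩) ∧
      resX _ hVf (fn (hs1 f f.2) j t ht) • res F hVU v = res F hVf (D.c f j m)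

theorem isVal_res {U U' : (Proj 𝒜).Opens} (h : U' ≤ U) {σ : Γ(GrTilde.tilde 𝒜 ℳ 0, U)}
    {v : Γ(F, U)} (hv : IsVal D σ v) :
    IsVal D (QCohMod.res (GrTilde.tilde 𝒜 ℳ 0) h σ) (res F h v) := by
  intro x hx
  obtain ⟨V, hVU, f, hVf, j, m, t, ht, hxV, hm, hfr, heq⟩ := hv x (h hx)
  refine ⟨V ⊓ U', inf_le_right, f, inf_le_left.trans hVf, j, m, t, ht, ⟨hxV, hx⟩, hm,
    fun y hy ↦ ?_, ?_⟩
  · obtain ⟨hty, e⟩ := hfr y hy.1
    exact ⟨hty, e⟩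
  · have := congrArg (res F (inf_le_left : V ⊓ U' ≤ V)) heq
    simpa only [res_smul, res_res, resX_resX] using this

/-- Replace the chart of a representative. -/
theorem change_chart {V : (Proj 𝒜).Opens} {f g : s} (hVf : V ≤ Proj.basicOpen 𝒜 (f : A))
    (hVg : V ≤ Proj.basicOpen 𝒜 (g : A)) {j : ℕ} {m : M} {t : A} (ht : t ∈ 𝒜 j) (hm : m ∈ ℳ j)
    {v : Γ(F, V)} (h : resX _ hVf (fn (hs1 f f.2) j t ht) • v = res F hVf (D.c f j m)) :
    resX _ hVg (fn (hs1 g g.2) j t ht) • v = res F hVg (D.c g j m) := by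
  rw [fn_change (hs1 f f.2) (hs1 g g.2) j t ht hVf hVg, mul_smul, h, D.c_res f g j m hm V hVf hVg]

theorem isVal_unique {U : (Proj 𝒜).Opens} {σ : Γ(GrTilde.tilde 𝒜 ℳ 0, U)} {v w : Γ(F, U)}
    (hv : IsVal D σ v) (hw : IsVal D σ w) : v = w := by
  classical
  have key : ∀ x : U, ∃ W : (Proj 𝒜).Opens, x.1 ∈ W ∧ ∃ hW : W ≤ U, res F hW v = res F hW w := by
    rintro ⟨x, hx⟩
    obtain ⟨V, hVU, f, hVf, j, m, t, ht, hxV, hm, hfr, heq⟩ := hv x hx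
    obtain ⟨V', hVU', g, hVg, j', m', t', ht', hxV', hm', hfr', heq'⟩ := hw x hx
    obtain ⟨htx, e⟩ := hfr x hxV
    obtain ⟨htx', e'⟩ := hfr' x hxV'
    obtain ⟨⟨u, hu⟩, hum⟩ := LocalizedModule.mk_eq.1 (e.symm.trans e')
    simp only [Submonoid.smul_def] at hum
    obtain ⟨k, hk⟩ : ∃ k, (DirectSum.decompose 𝒜 u k : A) ∉ x.asHomogeneousIdeal := by
      by_contra hc
      push Not at hc
      refine hu (?_ : u ∈ x.asHomogeneousIdeal.toIdeal)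
      rw [← DirectSum.sum_support_decompose 𝒜 u]
      exact Ideal.sum_mem _ fun k _ => hc k
    set uk := (DirectSum.decompose 𝒜 u k : A) with huk
    have hukm : uk ∈ 𝒜 k := SetLike.coe_mem _
    have h1 : t' • m ∈ ℳ (j' + j) := Tilde.smul_mem 𝒜 ℳ ht' hm rfl
    have h2 : t • m' ∈ ℳ (j' + j) := Tilde.smul_mem 𝒜 ℳ ht hm' (Nat.add_comm j j')
    have hum' : uk • (t' • m) = uk • (t • m') := by
      rw [huk, ← Tilde.decompose_smul_of_mem_right 𝒜 ℳ h1 u k,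
        ← Tilde.decompose_smul_of_mem_right 𝒜 ℳ h2 u k, hum]
    let W : (Proj 𝒜).Opens := V ⊓ V' ⊓ Proj.basicOpen 𝒜 uk
    have hWV : W ≤ V := inf_le_left.trans inf_le_left
    have hWV' : W ≤ V' := inf_le_left.trans inf_le_right
    refine ⟨W, ⟨⟨hxV, hxV'⟩, hk⟩, hWV.trans hVU, ?_⟩
    have a1 : resX _ (hWV.trans hVf) (fn (hs1 f f.2) j t ht) • res F (hWV.trans hVU) v =
        res F (hWV.trans hVf) (D.c f j m) := by
      have := congrArg (res F hWV) heq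
      simpa only [res_smul, res_res, resX_resX] using this
    have a2 : resX _ (hWV.trans hVf) (fn (hs1 f f.2) j' t' ht') • res F (hWV.trans hVU) w =
        res F (hWV.trans hVf) (D.c f j' m') := by
      refine change_chart D (hWV'.trans hVg) (hWV.trans hVf) ht' hm' ?_
      have := congrArg (res F hWV') heq'
      simpa only [res_smul, res_res, resX_resX] using this
    have e1 := congrArg (fun z ↦ res F (hWV.trans hVf) (D.c f (k + (j' + j)) z)) hum'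
    rw [D.c_smul f k (j' + j) uk hukm _ h1, D.c_smul f k (j' + j) uk hukm _ h2,
      D.c_smul f j' j t' ht' m hm] at e1
    have e2 : D.c f (j' + j) (t • m') = fn (hs1 f f.2) j t ht • D.c f j' m' := by
      rw [Nat.add_comm j' j]
      exact D.c_smul f j j' t ht m' hm'
    rw [e2] at e1
    simp only [res_smul] at e1
    rw [← a1, ← a2, smul_comm (resX _ (hWV.trans hVf) (fn (hs1 f f.2) j t ht))] at e1
    have u1 : IsUnit (resX _ (hWV.trans hVf) (fn (hs1 f f.2) k uk hukm)) :=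
      isUnit_fn _ k uk hukm _ fun y hy ↦ hy.2
    have u2 : IsUnit (resX _ (hWV.trans hVf) (fn (hs1 f f.2) j' t' ht')) :=
      isUnit_fn _ j' t' ht' _ fun y hy ↦ (hfr' y (hWV' hy)).1
    have u3 : IsUnit (resX _ (hWV.trans hVf) (fn (hs1 f f.2) j t ht)) :=
      isUnit_fn _ j t ht _ fun y hy ↦ (hfr y (hWV hy)).1
    exact u3.smul_left_cancel.1 (u2.smul_left_cancel.1 (u1.smul_left_cancel.1 e1))
  choose W hxW hWU hWe using key
  exact res_ext W hWU (fun x hx ↦ Opens.mem_iSup.2 ⟨⟨x, hx⟩, hxW ⟨x, hx⟩⟩) hWe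

theorem exists_isVal (hs : (HomogeneousIdeal.irrelevant 𝒜).toIdeal = Ideal.span (s : Set A))
    {U : (Proj 𝒜).Opens} (σ : Γ(GrTilde.tilde 𝒜 ℳ 0, U)) : ∃ v, IsVal D σ v := by
  classical
  have key : ∀ x : U, ∃ (W : (Proj 𝒜).Opens) (hW : W ≤ U), x.1 ∈ W ∧
      ∃ w : Γ(F, W), IsVal D (QCohMod.res (GrTilde.tilde 𝒜 ℳ 0) hW σ) w := by
    rintro ⟨x, hx⟩
    obtain ⟨V, hxV, ι, i, j, ⟨m, hm⟩, ⟨t, ht⟩, hnin, hdeg, hval⟩ := σ.2 ⟨x, hx⟩
    obtain ⟨f, hxf⟩ := exists_mem_chart s hs x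
    have hmj : m ∈ ℳ j := by
      rcases hdeg with h | h
      · have : i = j := by simpa using h
        exact this ▸ hm
      · change m = 0 at h
        exact h ▸ zero_mem _
    let W : (Proj 𝒜).Opens := V ⊓ Proj.basicOpen 𝒜 (f : A)
    have hWf : W ≤ Proj.basicOpen 𝒜 (f : A) := inf_le_right
    refine ⟨W, inf_le_left.trans ι.le, ⟨hxV, hxf⟩, ?_⟩
    have hu : IsUnit (resX _ hWf (fn (hs1 f f.2) j t ht)) :=
      isUnit_fn _ j t ht _ fun y hy ↦ hnin ⟨y, hy.1⟩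
    refine ⟨(↑hu.unit⁻¹ : Γ(Proj 𝒜, W)) • res F hWf (D.c f j m), fun y hy ↦
      ⟨W, le_rfl, f, hWf, j, m, t, ht, hy, hmj, fun z hz ↦ ⟨hnin ⟨z, hz.1⟩, hval ⟨z, hz.1⟩⟩, ?_⟩⟩
    rw [res_self, ← mul_smul, IsUnit.mul_val_inv, one_smul]
  choose W hWU hxW w hw using key
  obtain ⟨v, hv, -⟩ := res_glue W hWU (fun x hx ↦ Opens.mem_iSup.2 ⟨⟨x, hx⟩, hxW ⟨x, hx⟩⟩) w
    (fun a b ↦ by
      have ha := isVal_res D (inf_le_left : W a ⊓ W b ≤ W a) (hw a)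
      have hb := isVal_res D (inf_le_right : W a ⊓ W b ≤ W b) (hw b)
      rw [QCohMod.res_res] at ha hb
      exact isVal_unique D ha hb)
  refine ⟨v, fun x hx ↦ ?_⟩
  obtain ⟨V, hVW, f, hVf, j, m, t, ht, hxV, hm, hfr, heq⟩ := hw ⟨x, hx⟩ x (hxW _)
  refine ⟨V, hVW.trans (hWU _), f, hVf, j, m, t, ht, hxV, hm, fun y hy ↦ hfr y hy, ?_⟩
  rw [← res_res (hWU ⟨x, hx⟩) hVW v, hv]
  exact heq

theorem isVal_add {U : (Proj 𝒜).Opens} {σ τ : Γ(GrTilde.tilde 𝒜 ℳ 0, U)} {v w : Γ(F, U)}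
    (hv : IsVal D σ v) (hw : IsVal D τ w) : IsVal D (σ + τ) (v + w) := by
  intro x hx
  obtain ⟨V, hVU, f, hVf, j, m, t, ht, hxV, hm, hfr, heq⟩ := hv x hx
  obtain ⟨V', hVU', g, hVg, j', m', t', ht', hxV', hm', hfr', heq'⟩ := hw x hx
  have hWf : V ⊓ V' ≤ Proj.basicOpen 𝒜 (f : A) := inf_le_left.trans hVf
  have hWU : V ⊓ V' ≤ U := inf_le_left.trans hVU
  refine ⟨V ⊓ V', hWU, f, hWf, j + j', t' • m + t • m', t * t', SetLike.mul_mem_graded ht ht',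
    ⟨hxV, hxV'⟩, add_mem (Tilde.smul_mem 𝒜 ℳ ht' hm (Nat.add_comm j' j))
      (Tilde.smul_mem 𝒜 ℳ ht hm' rfl), fun y hy ↦ ?_, ?_⟩
  · obtain ⟨hty, e⟩ := hfr y hy.1
    obtain ⟨hty', e'⟩ := hfr' y hy.2
    refine ⟨y.asHomogeneousIdeal.toIdeal.primeCompl.mul_mem hty hty', ?_⟩
    rw [Tilde.tval_add, e, e', LocalizedModule.mk_add_mk]
    rfl
  · have a1 : resX _ hWf (fn (hs1 f f.2) j t ht) • res F hWU v = res F hWf (D.c f j m) := by
      have := congrArg (res F (inf_le_left : V ⊓ V' ≤ V)) heq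
      simpa only [res_smul, res_res, resX_resX] using this
    have a2 : resX _ hWf (fn (hs1 f f.2) j' t' ht') • res F hWU w = res F hWf (D.c f j' m') := by
      refine change_chart D (inf_le_right.trans hVg) hWf ht' hm' ?_
      have := congrArg (res F (inf_le_right : V ⊓ V' ≤ V')) heq'
      simpa only [res_smul, res_res, resX_resX] using this
    have e1 : D.c f (j + j') (t' • m) = fn (hs1 f f.2) j' t' ht' • D.c f j m := by
      rw [Nat.add_comm j j']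
      exact D.c_smul f j' j t' ht' m hm
    rw [map_add, e1, D.c_smul f j j' t ht m' hm', fn_mul _ j j' t t' ht ht' _ rfl]
    simp only [res_add, res_smul, map_mul, smul_add, ← a1, ← a2, ← mul_smul, mul_comm]

theorem isVal_smul {U : (Proj 𝒜).Opens} (r : Γ(Proj 𝒜, U)) {σ : Γ(GrTilde.tilde 𝒜 ℳ 0, U)} {v : Γ(F, U)}
    (hv : IsVal D σ v) : IsVal D (r • σ) (r • v) := by
  intro x hx
  obtain ⟨V, hVU, f, hVf, j, m, t, ht, hxV, hm, hfr, heq⟩ := hv x hx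
  obtain ⟨Vr, hxr, ι, k, ⟨a, ha⟩, ⟨b, hb⟩, hbin, hr⟩ := r.2 ⟨x, hx⟩
  have hWf : V ⊓ Vr ≤ Proj.basicOpen 𝒜 (f : A) := inf_le_left.trans hVf
  have hWU : V ⊓ Vr ≤ U := inf_le_left.trans hVU
  have hrv : ∀ (y : ProjectiveSpectrum 𝒜) (hy : y ∈ V ⊓ Vr),
      (r.1 ⟨y, hWU hy⟩).val = Localization.mk a ⟨b, hbin ⟨y, hy.2⟩⟩ := fun y hy ↦
    (congrArg HomogeneousLocalization.val (hr ⟨y, hy.2⟩)).trans (HomogeneousLocalization.val_mk _)
  refine ⟨V ⊓ Vr, hWU, f, hWf, k + j, a • m, b * t, SetLike.mul_mem_graded hb ht,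
    ⟨hxV, hxr⟩, Tilde.smul_mem 𝒜 ℳ ha hm rfl, fun y hy ↦ ?_, ?_⟩
  · obtain ⟨hty, e⟩ := hfr y hy.1
    refine ⟨y.asHomogeneousIdeal.toIdeal.primeCompl.mul_mem (hbin ⟨y, hy.2⟩) hty, ?_⟩
    rw [Tilde.tval_smul, e, hrv y hy, LocalizedModule.mk_smul_mk]
    rfl
  · have a1 : resX _ hWf (fn (hs1 f f.2) j t ht) • res F hWU v = res F hWf (D.c f j m) := by
      have := congrArg (res F (inf_le_left : V ⊓ Vr ≤ V)) heq
      simpa only [res_smul, res_res, resX_resX] using this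
    have hfun : resX _ hWf (fn (hs1 f f.2) k b hb) * resX _ hWU r =
        resX _ hWf (fn (hs1 f f.2) k a ha) := by
      refine fun_ext fun y hy ↦ ?_
      change ((fn (hs1 f f.2) k b hb).1 ⟨y, hWf hy⟩ * r.1 ⟨y, hWU hy⟩).val =
        ((fn (hs1 f f.2) k a ha).1 ⟨y, hWf hy⟩).val
      rw [HomogeneousLocalization.val_mul, fn_val, fn_val, hrv y hy, Localization.mk_mul,
        Localization.mk_eq_mk_iff, Localization.r_iff_exists]
      exact ⟨1, by simp only [OneMemClass.coe_one, one_mul, Submonoid.coe_mul]; ring⟩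
    rw [D.c_smul f k j a ha m hm, fn_mul _ k j b t hb ht _ rfl]
    simp only [res_smul, map_mul, ← a1, ← hfun, ← mul_smul]
    congr 1
    ring

variable (hs : (HomogeneousIdeal.irrelevant 𝒜).toIdeal = Ideal.span (s : Set A))

/-- The value of a section. -/
noncomputable def evalSect (U : (Proj 𝒜).Opens) :
    Γ(GrTilde.tilde 𝒜 ℳ 0, U) →+ Γ(F, U) :=
  AddMonoidHom.mk' (fun σ ↦ (exists_isVal D hs σ).choose) fun σ τ ↦
    isVal_unique D (exists_isVal D hs (σ + τ)).choose_spec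
      (isVal_add D (exists_isVal D hs σ).choose_spec (exists_isVal D hs τ).choose_spec)

theorem isVal_evalSect {U : (Proj 𝒜).Opens} (σ : Γ(GrTilde.tilde 𝒜 ℳ 0, U)) :
    IsVal D σ (evalSect D hs U σ) :=
  (exists_isVal D hs σ).choose_spec

/-- The morphism `M~ ⟶ F` given by chart data. -/
noncomputable def toHom : GrTilde.tilde 𝒜 ℳ 0 ⟶ F :=
  ⟨PresheafOfModules.homMk
    { app := fun W => AddCommGrpCat.ofHom (evalSect D hs W.unop)
      naturality := fun W W' i => by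
        ext σ
        exact isVal_unique D (isVal_evalSect D hs (QCohMod.res (GrTilde.tilde 𝒜 ℳ 0) i.unop.le σ))
          (isVal_res D i.unop.le (isVal_evalSect D hs σ)) }
    (fun W r σ => isVal_unique D
      (isVal_evalSect D hs ((show Γ(Proj 𝒜, W.unop) from r) •
        (show Γ(GrTilde.tilde 𝒜 ℳ 0, W.unop) from σ)))
      (isVal_smul D (show Γ(Proj 𝒜, W.unop) from r) (isVal_evalSect D hs σ)))⟩

theorem toHom_app {U : (Proj 𝒜).Opens} (σ : Γ(GrTilde.tilde 𝒜 ℳ 0, U)) :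
    (toHom D hs).app U σ = evalSect D hs U σ := rfl

/-- The value at the fraction `m / f ^ k` on `D₊(f)`. -/
theorem evalSect_frac (f : s) (k : ℕ) (m : M) (hm : m ∈ ℳ k)
    (σ : Γ(GrTilde.tilde 𝒜 ℳ 0, Proj.basicOpen 𝒜 (f : A)))
    (hσ : ∀ (x : ProjectiveSpectrum 𝒜) (hx : x ∈ Proj.basicOpen 𝒜 (f : A)),
      Tilde.tval σ x hx = LocalizedModule.mk m
        (⟨(f : A) ^ k, fun h => hx (x.isPrime.mem_of_pow_mem k h)⟩ :
          x.asHomogeneousIdeal.toIdeal.primeCompl)) :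
    evalSect D hs _ σ = D.c f k m := by
  refine isVal_unique D (isVal_evalSect D hs σ) fun x hx ↦ ⟨Proj.basicOpen 𝒜 (f : A), le_rfl, f,
    le_rfl, k, m, (f : A) ^ k, pow_mem_one (hs1 f f.2) k, hx, hm, fun y hy ↦ ⟨_, hσ y hy⟩, ?_⟩
  rw [fn_self, map_one, one_smul]

/-- The morphism is an isomorphism when the chart maps are surjective and their kernels consist of
torsion. -/
theorem isIso_toHom (hF : Coh.IsQCoh F)
    (hsurj : ∀ (f : s) (v : Γ(F, Proj.basicOpen 𝒜 (f : A))), ∃ n, ∃ m ∈ ℳ n, D.c f n m = v)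
    (hinj : ∀ (f : s) (n : ℕ) (m : M), m ∈ ℳ n → D.c f n m = 0 → ∃ N : ℕ, (f : A) ^ N • m = 0) :
    IsIso (toHom D hs) := by
  have : (GrTilde.tilde 𝒜 ℳ 0).IsQuasicoherent := Tilde.isQuasicoherent 𝒜 ℳ 0
  have : F.IsQuasicoherent := hF
  refine isIso_of_affine_cover _ (fun f : s ↦ Proj.basicOpen 𝒜 (f : A))
    (fun f ↦ Proj.isAffineOpen_basicOpen 𝒜 _ (hs1 f f.2) Nat.one_pos)
    (Proj.iSup_basicOpen_eq_top 𝒜 (fun f : s ↦ (f : A))
      (hs.le.trans (Ideal.span_mono fun y hy ↦ ⟨⟨y, hy⟩, rfl⟩))) fun f ↦ ?_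
  change Function.Bijective (evalSect D hs (Proj.basicOpen 𝒜 (f : A)))
  refine ⟨(injective_iff_map_eq_zero _).2 fun σ hσ ↦ ?_, fun v ↦ ?_⟩
  · obtain ⟨k, i, m, hi, hval⟩ := Tilde.exists_frac 𝒜 ℳ 0 Nat.one_pos (hs1 f f.2) σ
    obtain rfl : i = k := by simpa using hi
    rw [evalSect_frac D hs f i m.1 m.2 σ fun x hx ↦ hval ⟨x, hx⟩] at hσ
    obtain ⟨N, hN⟩ := hinj f i m.1 m.2 hσ
    refine Tilde.tval_ext fun x hx ↦ ?_
    rw [Tilde.tval_zero]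
    refine (hval ⟨x, hx⟩).trans ((Tilde.mk_eq_zero_iff 𝒜).2 ?_)
    exact ⟨(f : A) ^ N, fun h ↦ hx (x.isPrime.mem_of_pow_mem N h), hN⟩
  · obtain ⟨n, m, hm, rfl⟩ := hsurj f v
    refine ⟨Tilde.fracSect 𝒜 ℳ 0 (Proj.basicOpen 𝒜 (f : A)) m hm ((f : A) ^ n)
      (pow_mem_one (hs1 f f.2) n) (fun x h ↦ x.2 (x.1.isPrime.mem_of_pow_mem n h))
      (Or.inl (by simp)), ?_⟩
    exact evalSect_frac D hs f n m hm _ fun x hx ↦ rfl

end Groth.ProjTilde
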